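import Cfsg.Agent.Lib.SpMult.Lift
import Cfsg.Agent.Lib.SpSix.Main
import Cfsg.Agent.Lib.Concrete.SLMultiplier

/-!
# Eight dimensions over the field with two elements

The derived preimage of a pair fixer is a central cover of `Sp6(2)`; it kills the central involution of the
double cover, because this involution is a commutator of lifts of two commuting transvections.
-/

set_option autoImplicit false
set_option linter.unusedSectionVars false
set_option maxRecDepth 4000

namespace Cfsg.Lib.SpMult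

open Module
open Cfsg.Lib.Linear.Symp
open scoped commutatorElement Matrix
open Subgroup (center)

universe u

/-- A perfect group with trivial multiplier maps onto every stem extension of its quotients. -/
theorem lift_of_trivial {S Q Γ : Type u} [Group S] [Group Q] [Group Γ] [Finite S] [Finite Γ]
    (hS : commutator S = ⊤)
    (hM : ∀ (Γ : Type u) [Group Γ] [Finite Γ] (σ : Γ →* S), Cfsg.IsStemExtension σ → σ.ker = ⊥)
    (θ : S →* Q) (hθ : Function.Surjective θ) (σ : Γ →* Q) (hσ : Cfsg.IsStemExtension σ) :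
    ∃ τ : S →* Γ, Function.Surjective τ ∧ ∀ s, σ (τ s) = θ s := by
  have hQ : commutator Q = ⊤ := by
    have := congrArg (Subgroup.map θ) hS
    rw [commutator_def, Subgroup.map_commutator, Subgroup.map_top_of_surjective _ hθ, ← commutator_def] at this
    exact this
  let P : Subgroup (Γ × S) := (σ.comp (MonoidHom.fst Γ S)).eqLocus (θ.comp (MonoidHom.snd Γ S))
  let p₂ : P →* S := (MonoidHom.snd Γ S).comp P.subtype
  have hp₂ : Function.Surjective p₂ := fun s => by
    obtain ⟨γ, hγ⟩ := hσ.1 (θ s)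
    exact ⟨⟨(γ, s), hγ⟩, rfl⟩
  have hp₂c : p₂.ker ≤ center P := by
    intro x hx
    rw [Subgroup.mem_center_iff]
    intro y
    have h2 : x.1.2 = 1 := hx
    have h1 : x.1.1 ∈ center Γ := hσ.2.1 (by
      rw [MonoidHom.mem_ker]
      have e : σ x.1.1 = θ x.1.2 := x.2
      rw [e, h2, map_one])
    refine Subtype.ext (Prod.ext (Subgroup.mem_center_iff.1 h1 y.1.1) ?_)
    show y.1.2 * x.1.2 = x.1.2 * y.1.2
    rw [h2, one_mul, mul_one]
  let D := commutator P
  let r : D →* S := p₂.comp D.subtype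
  have hr : Function.Surjective r := by
    intro s
    have := congrArg (Subgroup.map p₂) (rfl : commutator P = commutator P)
    have hmap : D.map p₂ = ⊤ := by
      show (commutator P).map p₂ = ⊤
      rw [commutator_def, Subgroup.map_commutator, Subgroup.map_top_of_surjective _ hp₂, ← commutator_def, hS]
    obtain ⟨x, hx, hxs⟩ : s ∈ D.map p₂ := hmap ▸ Subgroup.mem_top s
    exact ⟨⟨x, hx⟩, hxs⟩
  have hrc : r.ker ≤ center D := fun x hx =>
    Subgroup.mem_center_iff.2 fun y => Subtype.ext (Subgroup.mem_center_iff.1 (hp₂c hx) y.1)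
  have hD : commutator D = ⊤ := by
    refine Subgroup.map_injective D.subtype_injective ?_
    rw [← MonoidHom.range_eq_map, Subgroup.range_subtype, commutator_def, Subgroup.map_commutator,
      ← MonoidHom.range_eq_map, Subgroup.range_subtype]
    refine le_antisymm (Subgroup.commutator_mono le_top le_top |>.trans (commutator_def P).ge) ?_
    show commutator P ≤ ⁅D, D⁆
    rw [commutator_eq_closure, Subgroup.closure_le]
    rintro _ ⟨a, b, rfl⟩
    obtain ⟨⟨a', ha'⟩, ea⟩ := hr (p₂ a)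
    obtain ⟨⟨b', hb'⟩, eb⟩ := hr (p₂ b)
    have hca : a'⁻¹ * a ∈ center P := hp₂c (by
      rw [MonoidHom.mem_ker, map_mul, map_inv]
      have : p₂ a' = p₂ a := ea
      rw [this, inv_mul_cancel])
    have hcb : b'⁻¹ * b ∈ center P := hp₂c (by
      rw [MonoidHom.mem_ker, map_mul, map_inv]
      have : p₂ b' = p₂ b := eb
      rw [this, inv_mul_cancel])
    have e := Cfsg.Lib.Chev.comm_mul_central (a := a') (b := b') hca hcb
    rw [mul_inv_cancel_left, mul_inv_cancel_left] at e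
    show ⁅a, b⁆ ∈ ⁅D, D⁆
    rw [e]
    exact Subgroup.commutator_mem_commutator ha' hb'
  have hker := hM D r ⟨hr, hrc, hD ▸ le_top⟩
  let eD : D ≃* S := MulEquiv.ofBijective r ⟨(MonoidHom.ker_eq_bot_iff r).1 hker, hr⟩
  let τ : S →* Γ := ((MonoidHom.fst Γ S).comp (P.subtype.comp D.subtype)).comp eD.symm.toMonoidHom
  have hτ : ∀ s, σ (τ s) = θ s := fun s => by
    have h1 : σ ((eD.symm s : P) : Γ × S).1 = θ ((eD.symm s : P) : Γ × S).2 := (eD.symm s : P).2
    have h2 : ((eD.symm s : P) : Γ × S).2 = s := eD.apply_symm_apply s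
    rw [h2] at h1
    exact h1
  have hτs : Function.Surjective τ := by
    rw [← MonoidHom.range_eq_top]
    refine Cfsg.Lib.Chev.top_of_stem hσ hQ (eq_top_iff.2 fun q _ => ?_)
    obtain ⟨s, rfl⟩ := hθ q
    exact ⟨τ s, ⟨s, rfl⟩, hτ s⟩
  exact ⟨τ, hτs, hτ⟩

open Cfsg.Lib.SpSix in
theorem noStem_uCov (Γ : Type u) [Group Γ] [Finite Γ] (σ : Γ →* ULift.{u} Cov)
    (hσ : Cfsg.IsStemExtension σ) : σ.ker = ⊥ := by
  have h := hasSchur_of_equiv.{u} (MulEquiv.ulift : ULift.{u} Cov ≃* Cov).symm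
    (Cfsg.Lib.Concrete.hasTrivialMultiplier noStem_Cov)
  obtain ⟨π, hπ⟩ := h.2 Γ σ hσ
  rw [eq_bot_iff]
  intro x hx
  obtain ⟨a, ha⟩ := hπ ⟨x, hx⟩
  have ha1 : a = 1 := Subsingleton.elim _ _
  rw [ha1, map_one] at ha
  exact Subgroup.mem_bot.2 (congrArg Subtype.val ha).symm

open Cfsg.Lib.SpSix in
theorem perfect_uCov : commutator (ULift.{u} Cov) = ⊤ := by
  rw [commutator_def, ← Subgroup.map_top_of_surjective (MulEquiv.ulift : ULift.{u} Cov ≃* Cov).symm.toMonoidHom
    (MulEquiv.ulift : ULift.{u} Cov ≃* Cov).symm.surjective, ← Subgroup.map_commutator, ← commutator_def,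
    Cfsg.Lib.Chev.stem_perfect toPSp_stem perfect_PSp]

open Cfsg.Lib.SpSix in
theorem toSp_tvWord (w : Fin 63) :
    ((toSp (cWord (tvWord.getD (w : ℕ) [])) : SpGrp) : Matrix (Fin 3 ⊕ Fin 3) (Fin 3 ⊕ Fin 3) (ZMod 2)) =
      Cfsg.sympTransvection 3 (vec w) 1 := by
  let A : SpGrp := ⟨_, sympTransvection_mem (vec w) 1⟩
  suffices h : toSp (cWord (tvWord.getD (w : ℕ) [])) = A from congrArg Subtype.val h
  refine spRep_injective (Equiv.ext fun j => Fin.ext ?_)
  rw [spRep_toSp, cWord_vec, tv_table, spRep_apply, sympTransvection_mulVec, one_mul, spB_apply, tvVec]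

open Cfsg.Lib.SpSix in
theorem lifts_not_commute :
    cWord (tvWord.getD ((0 : Fin 63) : ℕ) []) * cWord (tvWord.getD ((1 : Fin 63) : ℕ) []) ≠
      cWord (tvWord.getD ((1 : Fin 63) : ℕ) []) * cWord (tvWord.getD ((0 : Fin 63) : ℕ) []) := by
  intro h
  have h1 := congrArg (fun g : Cov => (ptAct g 0 : ℕ)) h
  simp only [map_mul, Equiv.Perm.mul_apply, cWord_pt] at h1
  revert h1
  decide +kernel

variable {F V : Type u} [Field F] [AddCommGroup V] [Module F V] [FiniteDimensional F V]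
  {B : LinearMap.BilinForm F V} {E : Type u} [Group E] {σ : E →* iso B}

open Cfsg.Lib.SpSix in
/-- Over two elements in dimension eight the derived preimages of pair fixers meet the kernel trivially. -/
theorem inj_eight [Fintype F] [Finite E] (hF : Fintype.card F = 2) (h : Ext σ) (hn : finrank F V = 8) :
    Inj σ := by
  intro e f hef d₀ hd₀ hd₁
  obtain ⟨r, hr⟩ := exists_Gp_equiv h.nd h.alt hef
  obtain ⟨hWA, hWB, hWd⟩ := restrict_perp h.nd h.alt hef
  obtain ⟨φ, hφ⟩ := exists_std hWB hWA (m := 3) (by omega)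
  let ι : ZMod 2 ≃+* F := ZMod.ringEquivOfPrime F Nat.prime_two hF
  let κ : SpGrp →* Matrix.symplecticGroup (Fin 3) F := MonoidHom.mk'
    (fun A => ⟨A.1.map ι.toRingHom, Cfsg.Lib.Linear.PermModule.symp_map _ A.2⟩)
    fun A A' => Subtype.ext Matrix.map_mul
  have hκ : Function.Bijective κ := by
    refine ⟨fun A A' hAA => Subtype.ext (Matrix.ext fun i j => ι.injective ?_), fun A => ?_⟩
    · exact congrArg (fun M : Matrix.symplecticGroup (Fin 3) F => M.1 i j) hAA
    · exact ⟨⟨A.1.map ι.symm.toRingHom, Cfsg.Lib.Linear.PermModule.symp_map _ A.2⟩,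
        Subtype.ext (Matrix.ext fun i j => ι.apply_symm_apply _)⟩
  let Φ : SpGrp ≃* Gp B e f := ((MulEquiv.ofBijective κ hκ).trans spEquiv).trans
    ((isoCongr φ hφ).symm.trans r.symm)
  let θ : ULift.{u} Cov →* Gp B e f := (Φ.toMonoidHom.comp toSp).comp MulEquiv.ulift.toMonoidHom
  have htoSp : Function.Surjective toSp := fun A => by
    obtain ⟨g, hg⟩ : spRep A ∈ proj.range := by rw [proj_range]; exact ⟨_, rfl⟩
    exact ⟨g, spRep_injective (by rw [spRep_toSp, hg])⟩
  obtain ⟨τ, hτs, hτ⟩ := lift_of_trivial perfect_uCov noStem_uCov θ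
    ((Φ.surjective.comp htoSp).comp MulEquiv.ulift.surjective) (rho σ e f) (h.rho_stem hef)
  -- the images of the transvection words
  let ω : Fin 63 → V := fun w => (φ.symm (ι ∘ vec w) : V)
  have htv : ∀ w : Fin 63, ((θ (ULift.up (cWord (tvWord.getD (w : ℕ) []))) : Gp B e f) : iso B) =
      tvG h.alt (ω w) 1 := by
    intro w
    let g := θ (ULift.up (cWord (tvWord.getD (w : ℕ) [])))
    have hwe : B e (ω w) = 0 ∧ B f (ω w) = 0 := mem_perpPair.1 (φ.symm (ι ∘ vec w)).2
    have hg : (g : iso B) ∈ Gp B e f := g.2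
    obtain ⟨g1, g2⟩ := mem_Gp.1 hg
    obtain ⟨t1, t2⟩ := mem_Gp.1 (tvG_mem_Gp h.alt hwe.1 hwe.2 (1 : F))
    refine Subtype.ext (LinearEquiv.ext fun x => ?_)
    have hx := pair_decomp h.alt hef x
    suffices hW : ∀ y : perpPair B e f, ((g : iso B) : V ≃ₗ[F] V) y.1 = (tvG h.alt (ω w) 1 : V ≃ₗ[F] V) y.1 by
      have := hW ⟨_, hx⟩
      simp only [map_sub, map_smul, g1, g2, t1, t2] at this
      exact sub_left_inj.1 this
    intro y
    rw [← hr]
    show ((r (r.symm _) : iso (B.restrict (perpPair B e f))) : perpPair B e f ≃ₗ[F] perpPair B e f) y = y.1 + _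
    rw [r.apply_symm_apply]
    obtain ⟨x, rfl⟩ : ∃ x : Fin 3 ⊕ Fin 3 → ZMod 2, φ.symm (ι ∘ x) = y :=
      ⟨ι.symm ∘ φ y, φ.injective (by rw [φ.apply_symm_apply]; funext i; exact ι.apply_symm_apply _)⟩
    show (φ.symm ((κ (toSp (cWord (tvWord.getD (w : ℕ) [])))).1 *ᵥ φ (φ.symm (ι ∘ x))) : V) = _
    rw [φ.apply_symm_apply]
    have hmap : (κ (toSp (cWord (tvWord.getD (w : ℕ) [])))).1 *ᵥ (ι ∘ x) =
        ι ∘ (Cfsg.sympTransvection 3 (vec w) 1 *ᵥ x) := by
      funext i
      show ((toSp (cWord (tvWord.getD (w : ℕ) []))).1.map ι.toRingHom *ᵥ (ι.toRingHom ∘ x)) i = _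
      rw [← RingHom.map_mulVec, toSp_tvWord]
      rfl
    have hform : ι (spB 3 (ZMod 2) x (vec w)) = spB 3 F (ι ∘ x) (ι ∘ vec w) := by
      simp only [spB_apply, Cfsg.sympForm, Matrix.J, Matrix.mulVec, dotProduct, Fintype.sum_sum_type, map_add,
        map_sum, map_mul, Function.comp_apply, Matrix.fromBlocks_apply₁₁, Matrix.fromBlocks_apply₁₂,
        Matrix.fromBlocks_apply₂₁, Matrix.fromBlocks_apply₂₂, Matrix.neg_apply, Matrix.one_apply,
        Matrix.zero_apply, apply_ite ι, map_neg, map_one, map_zero]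
    have hexp : ι ∘ (Cfsg.sympTransvection 3 (vec w) 1 *ᵥ x) =
        ι ∘ x + spB 3 F (ι ∘ x) (ι ∘ vec w) • (ι ∘ vec w) := by
      funext i
      rw [sympTransvection_mulVec, ← hform]
      simp
    have hb : spB 3 F (ι ∘ x) (ι ∘ vec w) = B (φ.symm (ι ∘ x) : V) (ω w) := by
      show _ = B.restrict (perpPair B e f) (φ.symm (ι ∘ x)) (φ.symm (ι ∘ vec w))
      rw [← hφ, φ.apply_symm_apply, φ.apply_symm_apply]
    rw [hmap, hexp, map_add, map_smul, hb]
    simp [ω, Submodule.coe_add, Submodule.coe_smul]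
  -- the central involution dies
  let g0 := cWord (tvWord.getD ((0 : Fin 63) : ℕ) [])
  let g1 := cWord (tvWord.getD ((1 : Fin 63) : ℕ) [])
  have hvec : Cfsg.sympForm 3 (ZMod 2) (vec 0) (vec 1) = 0 ∧ vec 0 (.inl 1) = 0 ∧ vec 1 (.inl 1) = 1 := by
    decide +kernel
  have horth : B (ω 0) (ω 1) = 0 := by
    show B.restrict (perpPair B e f) (φ.symm (ι ∘ vec 0)) (φ.symm (ι ∘ vec 1)) = 0
    rw [← hφ, φ.apply_symm_apply, φ.apply_symm_apply, spB_apply]
    have := congrArg ι hvec.1
    simp only [map_zero] at this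
    rw [← this]
    simp only [Cfsg.sympForm, Matrix.J, Matrix.mulVec, dotProduct, Fintype.sum_sum_type, map_add,
      map_sum, map_mul, Function.comp_apply, Matrix.fromBlocks_apply₁₁, Matrix.fromBlocks_apply₁₂,
      Matrix.fromBlocks_apply₂₁, Matrix.fromBlocks_apply₂₂, Matrix.neg_apply, Matrix.one_apply,
      Matrix.zero_apply, apply_ite ι, map_neg, map_one, map_zero]
  have hind : ω 1 ∉ Submodule.span F {ω 0} := by
    intro hm
    obtain ⟨c, hc⟩ := Submodule.mem_span_singleton.1 hm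
    have h2 : c • φ.symm (ι ∘ vec 0) = φ.symm (ι ∘ vec 1) := Subtype.ext hc
    rw [← map_smul] at h2
    have h3 := congrFun (φ.symm.injective h2) (Sum.inl 1)
    simp [hvec.2.1, hvec.2.2] at h3
  have hσ : ∀ s, σ (τ s : E) = ((θ s : Gp B e f) : iso B) := fun s => congrArg Subtype.val (hτ s)
  have hc : Commute (τ (ULift.up g0)) (τ (ULift.up g1)) :=
    Subtype.ext (h.commute_of_not_mem horth hind ((hσ _).trans (htv 0)) ((hσ _).trans (htv 1))).eq
  obtain ⟨c, hcd⟩ := hτs ⟨d₀, hd₀⟩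
  have hc1 : θ c = 1 := by rw [← hτ, hcd]; exact Subtype.ext hd₁
  have hp : proj c.down = 1 := by
    rw [← spRep_toSp, show toSp c.down = 1 from Φ.injective (hc1.trans (map_one Φ).symm), map_one]
  have hp2 : proj ⁅g0, g1⁆ = 1 := by
    have h1 : θ ⁅ULift.up g0, ULift.up g1⁆ = 1 := by
      rw [← hτ, map_commutatorElement, commutatorElement_eq_one_iff_commute.2 hc, map_one]
    rw [← spRep_toSp, show toSp ⁅g0, g1⁆ = 1 from Φ.injective (h1.trans (map_one Φ).symm), map_one]
  have hne : ⁅g0, g1⁆ ≠ 1 := fun h1 => lifts_not_commute (commutatorElement_eq_one_iff_mul_comm.1 h1)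
  have : (⟨d₀, hd₀⟩ : D σ e f) = 1 := by
    rw [← hcd]
    rcases ker_cases hp with h1 | h1
    · rw [show c = 1 from ULift.ext _ _ h1, map_one]
    · rw [show c = ⁅ULift.up g0, ULift.up g1⁆ from ULift.ext _ _ (h1.trans ((ker_cases hp2).resolve_left hne).symm),
        map_commutatorElement, commutatorElement_eq_one_iff_commute.2 hc]
  exact congrArg Subtype.val this

end Cfsg.Lib.SpMult
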