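import Cfsg.Agent.Lib.Linear.SymplecticGroup
import Cfsg.Agent.Lib.Linear.SymplecticDecomp

/-!
# Hyperbolic pairs, their pointwise fixers and their orthogonal complements
-/

set_option autoImplicit false
set_option linter.unusedSectionVars false

namespace Cfsg.Lib.SpMult

open Module
open Cfsg.Lib.Linear.Symp

universe u

variable {F V : Type u} [Field F] [AddCommGroup V] [Module F V] [FiniteDimensional F V]
  {B : LinearMap.BilinForm F V}

theorem skew (hA : B.IsAlt) (x y : V) : B y x = -B x y := (LinearMap.IsAlt.neg hA x y).symm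

theorem mem_orth_span {S : Set V} {x : V} :
    x ∈ B.orthogonal (Submodule.span F S) ↔ ∀ s ∈ S, B s x = 0 := by
  refine ⟨fun h s hs => h s (Submodule.subset_span hs), fun h y hy => ?_⟩
  have hle : Submodule.span F S ≤ LinearMap.ker (B.flip x) := Submodule.span_le.2 fun s hs => by
    simpa using h s hs
  simpa using hle hy

theorem finrank_orth (hB : B.Nondegenerate) (U : Submodule F V) :
    finrank F (B.orthogonal U) = finrank F V - finrank F U :=
  LinearMap.BilinForm.finrank_orthogonal hB U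

theorem finrank_span_three (a b c : V) : finrank F (Submodule.span F ({a, b, c} : Set V)) ≤ 3 := by
  classical
  have h1 := finrank_span_finset_le_card (R := F) ({a, b, c} : Finset V)
  simp only [Finset.coe_insert, Finset.coe_singleton] at h1
  exact h1.trans Finset.card_le_three

theorem finrank_span_two (a b : V) : finrank F (Submodule.span F ({a, b} : Set V)) ≤ 2 := by
  classical
  have h1 := finrank_span_finset_le_card (R := F) ({a, b} : Finset V)
  simp only [Finset.coe_insert, Finset.coe_singleton] at h1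
  exact h1.trans Finset.card_le_two

/-- A hyperbolic pair orthogonal to a subspace not containing its orthogonal space. -/
theorem exists_pair (hB : B.Nondegenerate) (hA : B.IsAlt) {U : Submodule F V} (h : ¬ B.orthogonal U ≤ U) :
    ∃ e f : V, B e f = 1 ∧ ∀ u ∈ U, B e u = 0 ∧ B f u = 0 := by
  obtain ⟨x, hx, hxU⟩ := SetLike.not_le_iff_exists.1 h
  obtain ⟨y, hy, hxy⟩ : ∃ y ∈ B.orthogonal U, B y x ≠ 0 := by
    by_contra hc
    push Not at hc
    exact hxU (LinearMap.BilinForm.orthogonal_orthogonal hB hA.isRefl U ▸ hc)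
  refine ⟨y, (B y x)⁻¹ • x, by simp [hxy], fun u hu => ⟨hA.isRefl _ _ (hy u hu), ?_⟩⟩
  rw [map_smul, LinearMap.smul_apply, hA.isRefl _ _ (hx u hu), smul_zero]

theorem exists_pair_of_lt (hB : B.Nondegenerate) (hA : B.IsAlt) {U : Submodule F V}
    (h : 2 * finrank F U < finrank F V) : ∃ e f : V, B e f = 1 ∧ ∀ u ∈ U, B e u = 0 ∧ B f u = 0 :=
  exists_pair hB hA fun hle => by
    have := Submodule.finrank_mono hle
    rw [finrank_orth hB] at this
    omega

theorem exists_pair_of_not_isotropic (hB : B.Nondegenerate) (hA : B.IsAlt) (hn : 6 ≤ finrank F V)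
    {U : Submodule F V} (hU : finrank F U ≤ 3) {x y : V} (hx : x ∈ U) (hy : y ∈ U) (hxy : B x y ≠ 0) :
    ∃ e f : V, B e f = 1 ∧ ∀ u ∈ U, B e u = 0 ∧ B f u = 0 :=
  exists_pair hB hA fun hle => hxy (by
    have h3 := Submodule.eq_of_le_of_finrank_le hle (by rw [finrank_orth hB]; omega)
    exact (h3.ge hy) x hx)

/-- The pointwise fixer of any subspace is generated by transvections. -/
theorem fixer_eq_T (hB : B.Nondegenerate) (hA : B.IsAlt) (X : Submodule F V) : fixer B X = T hA X := by
  refine le_antisymm (fun g hg => ?_) (T_le_fixer hA X)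
  suffices H : ∀ k : ℕ, ∀ Y : Submodule F V, X ≤ Y → finrank F Y + k = finrank F V →
      ∀ t ∈ T hA X, (∀ y ∈ Y, t y = g y) → g ∈ T hA X from
    H (finrank F V - finrank F X) X le_rfl (Nat.add_sub_cancel' (Submodule.finrank_le X)) 1 (one_mem _)
      (fun y hy => (hg.2 y hy).symm)
  intro k
  induction k with
  | zero =>
    intro Y _ hk t ht hty
    have hY : Y = ⊤ := Submodule.eq_top_of_finrank_eq (by omega)
    rwa [show g = t from LinearEquiv.ext fun x => (hty x (hY ▸ Submodule.mem_top)).symm]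
  | succ k ih =>
    intro Y hXY hk t ht hty
    obtain ⟨a, -, ha⟩ := SetLike.exists_of_lt (lt_top_iff_ne_top.2 (fun h : Y = ⊤ => by
      rw [h, finrank_top] at hk; omega))
    set Z := Y.map (g : V →ₗ[F] V) with hZ
    have hta : t a ∉ Z := by
      rintro ⟨y, hy, he⟩
      have : t y = t a := (hty y hy).trans he
      exact ha (t.injective this ▸ hy)
    have hga : g a ∉ Z := fun ⟨y, hy, he⟩ => ha (g.injective he ▸ hy)
    obtain ⟨s, hs, hsa⟩ := exists_T_map hB hA Z hta hga (by
      rintro _ ⟨y, hy, rfl⟩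
      show B (g y) (t a) = B (g y) (g a)
      rw [hg.1 y a, ← hty y hy, T_le_iso hA X ht y a])
    have hXZ : X ≤ Z := fun x hx => ⟨x, hXY hx, hg.2 x hx⟩
    have ha0 : a ≠ 0 := by
      rintro rfl
      exact ha Y.zero_mem
    have hdim : finrank F (Y ⊔ Submodule.span F {a} : Submodule F V) = finrank F Y + 1 := by
      have h1 := Submodule.finrank_sup_add_finrank_inf_eq Y (Submodule.span F {a})
      have hinf : Y ⊓ Submodule.span F {a} = ⊥ := by
        rw [← disjoint_iff]
        exact (Submodule.disjoint_span_singleton' ha0).2 ha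
      rw [hinf, finrank_bot, finrank_span_singleton ha0] at h1
      omega
    refine ih (Y ⊔ Submodule.span F {a}) (hXY.trans le_sup_left) (by omega) (s * t)
      (mul_mem (T_mono hA hXZ hs) ht) fun y hy => ?_
    obtain ⟨y', hy', _, hc, rfl⟩ := Submodule.mem_sup.1 hy
    obtain ⟨c, rfl⟩ := Submodule.mem_span_singleton.1 hc
    show s (t (y' + c • a)) = g (y' + c • a)
    rw [map_add, map_add, map_add, map_smul, map_smul, map_smul, hsa, hty y' hy',
      (T_le_fixer hA Z hs).2 (g y') ⟨y', hy', rfl⟩]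

/-- Moving one hyperbolic pair orthogonal to a vector to another one by transvections fixing the vector. -/
theorem exists_move_pair (hB : B.Nondegenerate) (hA : B.IsAlt) {u e f e' f' : V} (h : B e f = 1)
    (h' : B e' f' = 1) (hue : B e u = 0) (huf : B f u = 0) (hue' : B e' u = 0) (huf' : B f' u = 0) :
    ∃ g ∈ T hA (Submodule.span F {u}), g e = e' ∧ g f = f' := by
  have hns : ∀ {p q : V}, B p q = 1 → B q u = 0 → p ∉ Submodule.span F {u} := fun {p q} hpq hqu hm => by
    obtain ⟨c, rfl⟩ := Submodule.mem_span_singleton.1 hm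
    simp [skew hA q u, hqu] at hpq
  obtain ⟨s, hs, hse⟩ := exists_T_map hB hA (Submodule.span F {u}) (hns h huf) (hns h' huf') (fun x hx => by
    obtain ⟨c, rfl⟩ := Submodule.mem_span_singleton.1 hx
    simp [skew hA e u, hue, skew hA e' u, hue'])
  have hsu : s u = u := (T_le_fixer hA _ hs).2 u (Submodule.mem_span_singleton_self u)
  set X := Submodule.span F ({u, e'} : Set V) with hX
  have hnX : ∀ {q : V}, B e' q = 1 → q ∉ X := fun {q} hq hm => by
    obtain ⟨a, b, rfl⟩ := Submodule.mem_span_pair.1 hm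
    simp [hue', hA.self_eq_zero] at hq
  have h1 : B e' (s f) = 1 := by rw [← hse, T_le_iso hA _ hs, h]
  have h2 : B (s f) u = 0 := by rw [← hsu, T_le_iso hA _ hs, huf]
  obtain ⟨t, ht, htf⟩ := exists_T_map hB hA X (hnX h1) (hnX h') (fun x hx => by
    obtain ⟨a, b, rfl⟩ := Submodule.mem_span_pair.1 hx
    simp [skew hA (s f) u, h2, skew hA f' u, huf', h1, h'])
  refine ⟨t * s, mul_mem (T_mono hA (Submodule.span_mono (by simp)) ht) hs, ?_, by rw [LinearEquiv.mul_apply, htf]⟩
  rw [LinearEquiv.mul_apply, hse, (T_le_fixer hA X ht).2 e' (Submodule.subset_span (by simp))]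

/-- Isometric spaces have isomorphic isometry groups. -/
def isoCongr {W : Type u} [AddCommGroup W] [Module F W] {B' : LinearMap.BilinForm F W} (φ : V ≃ₗ[F] W)
    (hφ : ∀ x y, B' (φ x) (φ y) = B x y) : iso B ≃* iso B' where
  toFun g := ⟨(φ.symm.trans (g : V ≃ₗ[F] V)).trans φ, fun x y => by
    show B' (φ ((g : V ≃ₗ[F] V) (φ.symm x))) (φ ((g : V ≃ₗ[F] V) (φ.symm y))) = B' x y
    rw [hφ, g.2, ← hφ, φ.apply_symm_apply, φ.apply_symm_apply]⟩
  invFun g := ⟨(φ.trans (g : W ≃ₗ[F] W)).trans φ.symm, fun x y => by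
    show B (φ.symm ((g : W ≃ₗ[F] W) (φ x))) (φ.symm ((g : W ≃ₗ[F] W) (φ y))) = B x y
    rw [← hφ, φ.apply_symm_apply, φ.apply_symm_apply, g.2, hφ]⟩
  left_inv g := Subtype.ext (LinearEquiv.ext fun x => by simp)
  right_inv g := Subtype.ext (LinearEquiv.ext fun x => by simp)
  map_mul' g h := Subtype.ext (LinearEquiv.ext fun x => by simp)

/-- Every symplectic space is isometric to the standard one. -/
theorem exists_std (hB : B.Nondegenerate) (hA : B.IsAlt) {m : ℕ} (hm : finrank F V = 2 * m) :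
    ∃ φ : V ≃ₗ[F] (Fin m ⊕ Fin m → F), ∀ x y, spB m F (φ x) (φ y) = B x y := by
  let D : LinearMap.BilinForm F (V × (Fin m ⊕ Fin m → F)) := (B.compl₁₂ (LinearMap.fst F V _) (LinearMap.fst F V _)) +
    ((spB m F).compl₁₂ (LinearMap.snd F V _) (LinearMap.snd F V _))
  have hD : D.IsAlt := fun x => by simp [D, hA.self_eq_zero, (spB_isAlt m F).self_eq_zero]
  let X : Submodule F (V × (Fin m ⊕ Fin m → F)) := LinearMap.range (LinearMap.inl F V _)
  let Y : Submodule F (V × (Fin m ⊕ Fin m → F)) := LinearMap.range (LinearMap.inr F V _)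
  have hX : NondegOn D X := by
    rintro _ ⟨x, rfl⟩ hx
    obtain ⟨y, hy⟩ := exists_apply_ne_zero (B := B) hB (v := x) (fun h => hx (by simp [h]))
    exact ⟨_, ⟨y, rfl⟩, fun h => hy (hA.isRefl _ _ (by simpa [D, LinearMap.inl_apply, LinearMap.inr_apply, LinearMap.fst_apply, LinearMap.snd_apply] using h))⟩
  have hY : NondegOn D Y := by
    rintro _ ⟨x, rfl⟩ hx
    obtain ⟨y, hy⟩ := exists_apply_ne_zero (B := spB m F) (spB_nondegenerate m F) (v := x)
      (fun h => hx (by simp [h]))
    exact ⟨_, ⟨y, rfl⟩, fun h => hy ((spB_isAlt m F).isRefl _ _ (by simpa [D, LinearMap.inl_apply, LinearMap.inr_apply, LinearMap.fst_apply, LinearMap.snd_apply] using h))⟩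
  have hXd : finrank F X = 2 * m := by
    rw [LinearMap.finrank_range_of_inj LinearMap.inl_injective, hm]
  have hYd : finrank F Y = 2 * m := by
    rw [LinearMap.finrank_range_of_inj LinearMap.inr_injective, finrank_space]
  obtain ⟨φ, hφY, hφ⟩ := exists_isometry_between hD (finrank F X) X Y le_rfl hX hY (by omega)
  let ψ : V →ₗ[F] (Fin m ⊕ Fin m → F) :=
    (LinearMap.snd F V _).comp (φ.comp (LinearMap.inl F V (Fin m ⊕ Fin m → F)).rangeRestrict)
  have hψ : ∀ x y, spB m F (ψ x) (ψ y) = B x y := by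
    intro x y
    obtain ⟨a, ha⟩ := hφY ((LinearMap.inl F V (Fin m ⊕ Fin m → F)).rangeRestrict x)
    obtain ⟨b, hb⟩ := hφY ((LinearMap.inl F V (Fin m ⊕ Fin m → F)).rangeRestrict y)
    have h := hφ ((LinearMap.inl F V (Fin m ⊕ Fin m → F)).rangeRestrict x)
      ((LinearMap.inl F V (Fin m ⊕ Fin m → F)).rangeRestrict y)
    simp only [ψ, LinearMap.coe_comp, Function.comp_apply, ← ha, ← hb] at h ⊢
    simpa [D, LinearMap.inl_apply, LinearMap.inr_apply, LinearMap.fst_apply, LinearMap.snd_apply] using h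
  have hinj : Function.Injective ψ := by
    intro x y h
    by_contra hne
    obtain ⟨z, hz⟩ := exists_apply_ne_zero (B := B) hB (v := x - y) (sub_ne_zero.2 hne)
    refine hz ?_
    rw [← hψ, map_sub, h, sub_self, map_zero]
  exact ⟨LinearEquiv.ofInjectiveOfFinrankEq ψ hinj (by rw [hm, finrank_space]), hψ⟩

variable (B)

/-- The isometries fixing a pair. -/
def Gp (e f : V) : Subgroup (iso B) := (fixer B (Submodule.span F {e, f})).subgroupOf (iso B)

variable {B}

theorem mem_Gp {e f : V} {g : iso B} :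
    g ∈ Gp B e f ↔ (g : V ≃ₗ[F] V) e = e ∧ (g : V ≃ₗ[F] V) f = f := by
  rw [Gp, Subgroup.mem_subgroupOf, mem_fixer]
  refine ⟨fun h => ⟨h.2 e (Submodule.subset_span (by simp)), h.2 f (Submodule.subset_span (by simp))⟩,
    fun h => ⟨g.2, fun x hx => ?_⟩⟩
  obtain ⟨a, b, rfl⟩ := Submodule.mem_span_pair.1 hx
  rw [map_add, map_smul, map_smul, h.1, h.2]

theorem tvG_mem_Gp (hA : B.IsAlt) {e f u : V} (he : B e u = 0) (hf : B f u = 0) (c : F) :
    tvG hA u c ∈ Gp B e f := mem_Gp.2 ⟨by simp [tvG, he], by simp [tvG, hf]⟩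

/-- The orthogonal space of a pair. -/
def perpPair (B : LinearMap.BilinForm F V) (e f : V) : Submodule F V := LinearMap.ker (B e) ⊓ LinearMap.ker (B f)

theorem mem_perpPair {e f x : V} : x ∈ perpPair B e f ↔ B e x = 0 ∧ B f x = 0 := by
  simp [perpPair]

theorem pair_decomp (hA : B.IsAlt) {e f : V} (h : B e f = 1) (x : V) :
    x - (B x f • e - B x e • f) ∈ perpPair B e f := by
  rw [mem_perpPair]
  refine ⟨?_, ?_⟩ <;> simp [hA.self_eq_zero, h, skew hA e f, skew hA x e, skew hA x f]

/-- The orthogonal space of a pair, with the restricted form. -/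
theorem restrict_perp (hB : B.Nondegenerate) (hA : B.IsAlt) {e f : V} (h : B e f = 1) :
    (B.restrict (perpPair B e f)).IsAlt ∧ (B.restrict (perpPair B e f)).Nondegenerate ∧
      finrank F (perpPair B e f) + 2 = finrank F V := by
  have halt : (B.restrict (perpPair B e f)).IsAlt := fun x => hA.self_eq_zero x.1
  have hL : (B.restrict (perpPair B e f)).SeparatingLeft := by
    intro x hx
    refine Subtype.ext (hB.1 x.1 fun y => ?_)
    obtain ⟨hxe, hxf⟩ := mem_perpPair.1 x.2
    have := hx ⟨_, pair_decomp hA h y⟩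
    simpa [skew hA e x.1, skew hA f x.1, hxe, hxf] using this
  refine ⟨halt, ⟨hL, fun x hx => hL x fun y => halt.isRefl _ _ (hx y)⟩, ?_⟩
  have hs : Function.Surjective ((B e).prod (B f)) := by
    rintro ⟨p, q⟩
    exact ⟨p • f - q • e, by simp [hA.self_eq_zero, h, skew hA e f]⟩
  have h1 := LinearMap.finrank_range_add_finrank_ker ((B e).prod (B f))
  rw [LinearMap.range_eq_top.2 hs, finrank_top, Module.finrank_prod, Module.finrank_self, LinearMap.ker_prod] at h1
  rw [perpPair]
  omega

/-- The fixer of a pair is the isometry group of its orthogonal space. -/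
theorem exists_Gp_equiv (hB : B.Nondegenerate) (hA : B.IsAlt) {e f : V} (h : B e f = 1) :
    ∃ r : Gp B e f ≃* iso (B.restrict (perpPair B e f)), ∀ (g : Gp B e f) (x : perpPair B e f),
      (((r g : iso (B.restrict (perpPair B e f))) : perpPair B e f ≃ₗ[F] perpPair B e f) x : V) =
        ((g : iso B) : V ≃ₗ[F] V) x := by
  let W := perpPair B e f
  have hWmap : ∀ g : Gp B e f, ∀ x ∈ W, ((g : iso B) : V ≃ₗ[F] V) x ∈ W := by
    intro g x hx
    obtain ⟨h1, h2⟩ := mem_Gp.1 g.2
    rw [mem_perpPair] at hx ⊢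
    refine ⟨?_, ?_⟩
    · have h3 := (g : iso B).2 e x
      rw [h1] at h3
      rw [h3]; exact hx.1
    · have h3 := (g : iso B).2 f x
      rw [h2] at h3
      rw [h3]; exact hx.2
  have hback : ∀ (g : Gp B e f) (x : V), x ∈ W → ((g⁻¹ : Gp B e f) : iso B).1 x ∈ W := fun g x hx => hWmap g⁻¹ x hx
  let res : Gp B e f →* iso (B.restrict W) := MonoidHom.mk'
    (fun g => ⟨LinearEquiv.ofLinear (((g : iso B) : V ≃ₗ[F] V).toLinearMap.restrict (hWmap g))
        ((((g⁻¹ : Gp B e f) : iso B) : V ≃ₗ[F] V).toLinearMap.restrict (hWmap g⁻¹))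
        (LinearMap.ext fun x => Subtype.ext (((g : iso B) : V ≃ₗ[F] V).apply_symm_apply x.1))
        (LinearMap.ext fun x => Subtype.ext (((g : iso B) : V ≃ₗ[F] V).symm_apply_apply x.1)),
      fun x y => (g : iso B).2 x.1 y.1⟩)
    (fun g g' => Subtype.ext (LinearEquiv.ext fun x => rfl))
  have hinj : Function.Injective res := by
    intro g g' hgg
    refine Subtype.ext (Subtype.ext (LinearEquiv.ext fun x => ?_))
    have h1 := congrArg (fun k : iso (B.restrict W) => ((k : W ≃ₗ[F] W) ⟨_, pair_decomp hA h x⟩ : W).1) hgg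
    obtain ⟨a1, a2⟩ := mem_Gp.1 g.2
    obtain ⟨b1, b2⟩ := mem_Gp.1 g'.2
    change ((g : iso B) : V ≃ₗ[F] V) _ = ((g' : iso B) : V ≃ₗ[F] V) _ at h1
    simpa [map_sub, map_smul, a1, a2, b1, b2] using h1
  have hsurj : Function.Surjective res := by
    intro k
    let hl := (B.flip f).smulRight e - (B.flip e).smulRight f
    let dec : V →ₗ[F] W := (LinearMap.id - hl).codRestrict W (fun x => by simpa [hl] using pair_decomp hA h x)
    let ext : ∀ k : W ≃ₗ[F] W, V →ₗ[F] V := fun k => hl + W.subtype ∘ₗ k.toLinearMap ∘ₗ dec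
    have hd0 : ∀ x : W, dec x.1 = x := fun x => Subtype.ext (by
      obtain ⟨h1, h2⟩ := mem_perpPair.1 x.2
      simp [dec, hl, skew hA e x.1, skew hA f x.1, h1, h2])
    have hl0 : ∀ x : W, hl x.1 = 0 := fun x => by
      obtain ⟨h1, h2⟩ := mem_perpPair.1 x.2
      simp [hl, skew hA e x.1, skew hA f x.1, h1, h2]
    have hll : ∀ x, hl (hl x) = hl x := fun x => by simp [hl, hA.self_eq_zero, h, skew hA e f]
    have hdl : ∀ x, dec (hl x) = 0 := fun x => Subtype.ext (by
      show hl x - hl (hl x) = 0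
      rw [hll, sub_self])
    have hsplit : ∀ x, hl x + (dec x).1 = x := fun x => by simp [dec]
    have hcomp : ∀ k k' : W ≃ₗ[F] W, (ext k) ∘ₗ (ext k') = ext (k * k') := fun k k' => LinearMap.ext fun x => by
      simp [ext, hll, hdl, hl0, hd0, LinearEquiv.mul_apply]
    have hone : ext 1 = LinearMap.id := LinearMap.ext fun x => by simpa [ext] using hsplit x
    let ge : V ≃ₗ[F] V := LinearEquiv.ofLinear (ext k.1) (ext k.1⁻¹)
      (by rw [hcomp, mul_inv_cancel, hone]) (by rw [hcomp, inv_mul_cancel, hone])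
    have hiso : ge ∈ iso B := fun x y => by
      have hw : ∀ (w : W) (z : V), B (hl z) w.1 = 0 ∧ B w.1 (hl z) = 0 := fun w z => by
        obtain ⟨h1, h2⟩ := mem_perpPair.1 w.2
        simp [hl, h1, h2, skew hA e w.1, skew hA f w.1]
      show B (hl x + (k.1 (dec x)).1) (hl y + (k.1 (dec y)).1) = B x y
      conv_rhs => rw [← hsplit x, ← hsplit y]
      simp only [map_add, LinearMap.add_apply, (hw _ _).1, (hw _ _).2, zero_add, add_zero]
      congr 1
      exact k.2 (dec x) (dec y)
    have he : ge e = e := by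
      show hl e + (k.1 (dec e)).1 = e
      have h0 : hl e = e := by simp [hl, h, hA.self_eq_zero]
      rw [← h0, hll, hdl, map_zero]
      simp
    have hf : ge f = f := by
      show hl f + (k.1 (dec f)).1 = f
      have h0 : hl f = f := by simp [hl, h, hA.self_eq_zero, skew hA e f]
      rw [← h0, hll, hdl, map_zero]
      simp
    refine ⟨⟨⟨ge, hiso⟩, mem_Gp.2 ⟨he, hf⟩⟩, Subtype.ext (LinearEquiv.ext fun x => Subtype.ext ?_)⟩
    show hl x.1 + (k.1 (dec x.1)).1 = (k.1 x).1
    rw [hl0, hd0, zero_add]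
  exact ⟨MulEquiv.ofBijective res ⟨hinj, hsurj⟩, fun g x => rfl⟩

end Cfsg.Lib.SpMult
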