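import Cfsg.Agent.Lib.SpMult.Geometry
import Cfsg.Agent.Lib.Chev.StStem

/-!
# Canonical lifts of symplectic transvections to a central extension

The derived subgroup of the preimage of the fixer of a hyperbolic pair maps isomorphically onto that
fixer, which gives a canonical lift of each transvection.
-/

set_option autoImplicit false
set_option linter.unusedSectionVars false

namespace Cfsg.Lib.SpMult

open Module
open Cfsg.Lib.Linear.Symp
open scoped commutatorElement

universe u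

variable {F V : Type u} [Field F] [AddCommGroup V] [Module F V] [FiniteDimensional F V]
  {B : LinearMap.BilinForm F V} {E : Type u} [Group E]

/-- Central extensions of a symplectic group in dimension at least six with perfect pair fixers. -/
structure Ext (σ : E →* iso B) : Prop where
  nd : B.Nondegenerate
  alt : B.IsAlt
  dim : 6 ≤ finrank F V
  surj : Function.Surjective σ
  cent : σ.ker ≤ Subgroup.center E
  perf : ∀ e f : V, B e f = 1 → ⁅Gp B e f, Gp B e f⁆ = Gp B e f

/-- The derived subgroup of the preimage of a pair fixer. -/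
def D (σ : E →* iso B) (e f : V) : Subgroup E := ⁅(Gp B e f).comap σ, (Gp B e f).comap σ⁆

/-- The derived preimages of the pair fixers meet the kernel trivially. -/
def Inj (σ : E →* iso B) : Prop := ∀ e f : V, B e f = 1 → ∀ d ∈ D σ e f, σ d = 1 → d = 1

variable {σ : E →* iso B}

theorem D_le (e f : V) : D σ e f ≤ (Gp B e f).comap σ :=
  Subgroup.commutator_le.2 fun a ha b hb => by
    rw [commutatorElement_def]
    exact mul_mem (mul_mem (mul_mem ha hb) (inv_mem ha)) (inv_mem hb)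

theorem Ext.exists_D (h : Ext σ) {e f : V} (hef : B e f = 1) {g : iso B} (hg : g ∈ Gp B e f) :
    ∃ d ∈ D σ e f, σ d = g := by
  have : (D σ e f).map σ = Gp B e f := by
    rw [D, Subgroup.map_commutator, Subgroup.map_comap_eq_self_of_surjective h.surj, h.perf e f hef]
  rw [← this] at hg
  exact hg

theorem eq_of_D (hi : Inj σ) {e f : V} (hef : B e f = 1) {d d' : E} (hd : d ∈ D σ e f)
    (hd' : d' ∈ D σ e f) (h : σ d = σ d') : d = d' := by
  have := hi e f hef (d * d'⁻¹) (mul_mem hd (inv_mem hd')) (by rw [map_mul, map_inv, h, mul_inv_cancel])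
  rwa [mul_inv_eq_one] at this

/-- The derived preimage of a pair fixer, mapped to the fixer. -/
def rho (σ : E →* iso B) (e f : V) : D σ e f →* Gp B e f :=
  (σ.comp (D σ e f).subtype).codRestrict _ fun d => D_le (σ := σ) e f d.2

theorem Ext.rho_stem (h : Ext σ) {e f : V} (hef : B e f = 1) : Cfsg.IsStemExtension (rho σ e f) := by
  have hρs : Function.Surjective (rho σ e f) := fun g => by
    obtain ⟨d, hd, hdg⟩ := h.exists_D hef g.2
    exact ⟨⟨d, hd⟩, Subtype.ext hdg⟩
  have hρc : (rho σ e f).ker ≤ Subgroup.center (D σ e f) := fun d hd => Subgroup.mem_center_iff.2 fun x =>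
    Subtype.ext (Subgroup.mem_center_iff.1 (h.cent (congrArg Subtype.val hd)) x.1)
  have hDp : commutator (D σ e f) = ⊤ := by
    refine Subgroup.map_injective (D σ e f).subtype_injective ?_
    rw [← MonoidHom.range_eq_map, Subgroup.range_subtype, commutator_def, Subgroup.map_commutator,
      ← MonoidHom.range_eq_map, Subgroup.range_subtype]
    have hle : D σ e f ≤ (Gp B e f).comap σ := D_le e f
    refine le_antisymm (Subgroup.commutator_mono hle hle) ?_
    rw [D, Subgroup.commutator_le]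
    intro a ha b hb
    obtain ⟨a', ha', ea⟩ := h.exists_D hef ha
    obtain ⟨b', hb', eb⟩ := h.exists_D hef hb
    have hca : a'⁻¹ * a ∈ Subgroup.center E :=
      h.cent (by rw [MonoidHom.mem_ker, map_mul, map_inv, ea, inv_mul_cancel])
    have hcb : b'⁻¹ * b ∈ Subgroup.center E :=
      h.cent (by rw [MonoidHom.mem_ker, map_mul, map_inv, eb, inv_mul_cancel])
    have hcomm := Cfsg.Lib.Chev.comm_mul_central (a := a') (b := b') hca hcb
    rw [mul_inv_cancel_left, mul_inv_cancel_left] at hcomm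
    rw [hcomm]
    exact Subgroup.commutator_mem_commutator ha' hb'
  exact ⟨hρs, hρc, hDp ▸ le_top⟩

theorem commute_tvG (hA : B.IsAlt) {u w : V} (huw : B u w = 0) (c d : F) :
    Commute (tvG hA u c) (tvG hA w d) := by
  have h1 := tvG_conj hA (tvG hA u c) w d
  rw [show ((tvG hA u c : iso B) : V ≃ₗ[F] V) w = w by simp [tvG, skew hA u w, huw]] at h1
  exact mul_inv_eq_iff_eq_mul.1 h1

theorem tvG_zero_left (hA : B.IsAlt) (c : F) : tvG hA (0 : V) c = 1 :=
  Subtype.ext (LinearEquiv.ext fun x => by simp [tvG])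

theorem tvG_zero (hA : B.IsAlt) (v : V) : tvG hA v (0 : F) = 1 := Subtype.ext (tv_zero hA v)

theorem tvG_smul (hA : B.IsAlt) (v : V) (a c : F) : tvG hA (a • v) c = tvG hA v (a ^ 2 * c) :=
  Subtype.ext (tv_smul hA v a c)

theorem Ext.exists_pair_one (h : Ext σ) (u : V) : ∃ e f : V, B e f = 1 ∧ B e u = 0 ∧ B f u = 0 := by
  have hd : finrank F (Submodule.span F ({u} : Set V)) ≤ 1 := by
    exact (finrank_span_le_card ({u} : Set V)).trans (by simp)
  obtain ⟨e, f, hef, hp⟩ := exists_pair_of_lt h.nd h.alt (U := Submodule.span F {u})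
    (by have := h.dim; omega)
  exact ⟨e, f, hef, hp u (Submodule.mem_span_singleton_self u)⟩

/-- Lifts of elements commuting with a transvection commute with its lifts on derived subgroups. -/
theorem Ext.commute_of_not_mem (h : Ext σ) {u w : V} (huw : B u w = 0) (hw : w ∉ Submodule.span F {u})
    {c d : F} {a b : E} (ha : σ a = tvG h.alt u c) (hb : σ b = tvG h.alt w d) : Commute a b := by
  rcases eq_or_ne u 0 with rfl | hu
  · have : a ∈ Subgroup.center E := h.cent (by rw [MonoidHom.mem_ker, ha, tvG_zero_left])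
    exact (Subgroup.mem_center_iff.1 this b).symm
  obtain ⟨x, hwx, hux⟩ : ∃ x, B w x = 0 ∧ B u x ≠ 0 := by
    by_contra hc
    push Not at hc
    have hmem : u ∈ B.orthogonal (B.orthogonal (Submodule.span F {w})) := fun x hx =>
      h.alt.isRefl _ _ (hc x (hx w (Submodule.mem_span_singleton_self w)))
    rw [LinearMap.BilinForm.orthogonal_orthogonal h.nd h.alt.isRefl, Submodule.mem_span_singleton] at hmem
    obtain ⟨k, rfl⟩ := hmem
    have hk : k ≠ 0 := fun hk => hu (by simp [hk])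
    exact hw (Submodule.mem_span_singleton.2 ⟨k⁻¹, by rw [smul_smul, inv_mul_cancel₀ hk, one_smul]⟩)
  have hpair : B u ((B u x)⁻¹ • x) = 1 := by simp [hux]
  have hxw : B ((B u x)⁻¹ • x) w = 0 := by simp [skew h.alt w x, hwx]
  have hD : D σ u ((B u x)⁻¹ • x) ≤ Subgroup.centralizer {a} := by
    rw [D, Subgroup.commutator_le]
    intro k1 hk1 k2 hk2
    have hz : ∀ k ∈ (Gp B u ((B u x)⁻¹ • x)).comap σ, ∃ z ∈ Subgroup.center E, a * k * a⁻¹ = k * z := by
      intro k hk
      refine ⟨k⁻¹ * (a * k * a⁻¹), h.cent ?_, by group⟩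
      have hc : σ k * σ a * (σ k)⁻¹ = σ a := by rw [ha, tvG_conj, (mem_Gp.1 hk).1]
      rw [MonoidHom.mem_ker, map_mul, map_mul, map_mul, map_inv, map_inv]
      rw [mul_inv_eq_iff_eq_mul] at hc
      rw [← hc]
      group
    obtain ⟨z1, hz1, e1⟩ := hz k1 hk1
    obtain ⟨z2, hz2, e2⟩ := hz k2 hk2
    rw [Subgroup.mem_centralizer_singleton_iff]
    have : a * ⁅k1, k2⁆ * a⁻¹ = ⁅k1, k2⁆ := by
      rw [show a * ⁅k1, k2⁆ * a⁻¹ = ⁅a * k1 * a⁻¹, a * k2 * a⁻¹⁆ by simp only [commutatorElement_def]; group,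
        e1, e2]
      exact Cfsg.Lib.Chev.comm_mul_central hz1 hz2
    exact (mul_inv_eq_iff_eq_mul.1 this).symm
  obtain ⟨e, he, hse⟩ := h.exists_D hpair (tvG_mem_Gp h.alt (u := w) huw hxw d)
  have hec : Commute a e := (Subgroup.mem_centralizer_singleton_iff.1 (hD he)).symm
  have hz : e⁻¹ * b ∈ Subgroup.center E := h.cent (by rw [MonoidHom.mem_ker, map_mul, map_inv, hse, hb, inv_mul_cancel])
  have := hec.mul_right (Subgroup.mem_center_iff.1 hz a : Commute a (e⁻¹ * b))
  rwa [mul_inv_cancel_left] at this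

/-- Lifts of commuting transvections commute. -/
theorem Ext.commute (h : Ext σ) (hi : Inj σ) {u w : V} (huw : B u w = 0)
    {c d : F} {a b : E} (ha : σ a = tvG h.alt u c) (hb : σ b = tvG h.alt w d) : Commute a b := by
  by_cases hw : w ∈ Submodule.span F {u}
  · obtain ⟨e, f, hef, heu, hfu⟩ := h.exists_pair_one u
    obtain ⟨k, rfl⟩ := Submodule.mem_span_singleton.1 hw
    obtain ⟨d1, hd1, hs1⟩ := h.exists_D hef (tvG_mem_Gp h.alt heu hfu c)
    obtain ⟨d2, hd2, hs2⟩ := h.exists_D hef (tvG_mem_Gp h.alt (u := k • u) (by simp [heu]) (by simp [hfu]) d)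
    have hcc : Commute d1 d2 := eq_of_D hi hef (mul_mem hd1 hd2) (mul_mem hd2 hd1) (by
      rw [map_mul, map_mul, hs1, hs2]
      exact commute_tvG h.alt huw c d)
    have z1 : d1⁻¹ * a ∈ Subgroup.center E :=
      h.cent (by rw [MonoidHom.mem_ker, map_mul, map_inv, hs1, ha, inv_mul_cancel])
    have z2 : d2⁻¹ * b ∈ Subgroup.center E :=
      h.cent (by rw [MonoidHom.mem_ker, map_mul, map_inv, hs2, hb, inv_mul_cancel])
    have h1 : Commute a d2 := by
      have := hcc.mul_left (Subgroup.mem_center_iff.1 z1 d2).symm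
      rwa [mul_inv_cancel_left] at this
    have := h1.mul_right (Subgroup.mem_center_iff.1 z2 a : Commute a (d2⁻¹ * b))
    rwa [mul_inv_cancel_left] at this
  · exact h.commute_of_not_mem huw hw ha hb

open scoped Classical in
/-- The canonical lift of a transvection. -/
noncomputable def z (hA : B.IsAlt) (σ : E →* iso B) (u : V) (c : F) : E :=
  Classical.epsilon fun d => ∃ e f : V, B e f = 1 ∧ B e u = 0 ∧ B f u = 0 ∧ d ∈ D σ e f ∧ σ d = tvG hA u c

theorem Ext.z_spec (h : Ext σ) (u : V) (c : F) : ∃ e f : V, B e f = 1 ∧ B e u = 0 ∧ B f u = 0 ∧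
    z h.alt σ u c ∈ D σ e f ∧ σ (z h.alt σ u c) = tvG h.alt u c := by
  obtain ⟨e, f, hef, heu, hfu⟩ := h.exists_pair_one u
  obtain ⟨d, hd, hs⟩ := h.exists_D hef (tvG_mem_Gp h.alt heu hfu c)
  exact Classical.epsilon_spec (p := fun d => ∃ e f : V, B e f = 1 ∧ B e u = 0 ∧ B f u = 0 ∧ d ∈ D σ e f ∧
    σ d = tvG h.alt u c) ⟨d, e, f, hef, heu, hfu, hd, hs⟩

theorem Ext.sigma_z (h : Ext σ) (u : V) (c : F) : σ (z h.alt σ u c) = tvG h.alt u c := by
  obtain ⟨_, _, _, _, _, _, hs⟩ := h.z_spec u c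
  exact hs

theorem conj_D (x : E) {e f : V} {d : E} (hd : d ∈ D σ e f) :
    x * d * x⁻¹ ∈ D σ ((σ x : V ≃ₗ[F] V) e) ((σ x : V ≃ₗ[F] V) f) := by
  have hle : ((Gp B e f).comap σ).map (MulAut.conj x).toMonoidHom ≤
      (Gp B ((σ x : V ≃ₗ[F] V) e) ((σ x : V ≃ₗ[F] V) f)).comap σ := by
    rintro _ ⟨k, hk, rfl⟩
    obtain ⟨h1, h2⟩ := mem_Gp.1 hk
    refine mem_Gp.2 ?_
    show ((σ (x * k * x⁻¹) : iso B) : V ≃ₗ[F] V) _ = _ ∧ ((σ (x * k * x⁻¹) : iso B) : V ≃ₗ[F] V) _ = _
    rw [map_mul, map_mul, map_inv, Subgroup.coe_mul, Subgroup.coe_mul, Subgroup.coe_inv]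
    have hcancel : ∀ v : V, ((σ x : iso B) : V ≃ₗ[F] V)⁻¹ ((σ x : V ≃ₗ[F] V) v) = v := fun v => by
      rw [← LinearEquiv.mul_apply, inv_mul_cancel]; rfl
    simp only [LinearEquiv.mul_apply, hcancel, h1, h2, and_self]
  have := Subgroup.mem_map_of_mem (MulAut.conj x).toMonoidHom hd
  rw [D, Subgroup.map_commutator] at this
  exact Subgroup.commutator_mono hle hle this

/-- The canonical lift lies in the derived preimage of every pair orthogonal to its centre. -/
theorem Ext.z_mem (h : Ext σ) (hi : Inj σ) {e f u : V} (hef : B e f = 1) (heu : B e u = 0) (hfu : B f u = 0)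
    (c : F) : z h.alt σ u c ∈ D σ e f := by
  obtain ⟨e', f', hef', heu', hfu', hz, hs⟩ := h.z_spec u c
  obtain ⟨g, hg, hge, hgf⟩ := exists_move_pair h.nd h.alt hef' hef heu' hfu' heu hfu
  set w := z h.alt σ u c
  have hT : T h.alt (Submodule.span F {u}) ≤ ((Subgroup.centralizer {w}).map σ).map (iso B).subtype := by
    rw [T, Subgroup.closure_le]
    rintro _ ⟨v, hv, c', rfl⟩
    obtain ⟨x, hx⟩ := h.surj (tvG h.alt v c')
    refine ⟨σ x, ⟨x, ?_, rfl⟩, by rw [hx]; rfl⟩
    exact Subgroup.mem_centralizer_singleton_iff.2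
      (h.commute hi (hv u (Submodule.mem_span_singleton_self u)) hs hx).symm
  obtain ⟨_, ⟨x, hx, rfl⟩, rfl⟩ := hT hg
  have hxw : x * w * x⁻¹ = w := mul_inv_eq_iff_eq_mul.2 (Subgroup.mem_centralizer_singleton_iff.1 hx)
  have := conj_D x hz
  rw [hxw] at this
  change w ∈ D σ ((iso B).subtype (σ x) e') ((iso B).subtype (σ x) f') at this
  rwa [hge, hgf] at this

theorem Ext.z_eq (h : Ext σ) (hi : Inj σ) {e f u : V} (hef : B e f = 1) (heu : B e u = 0) (hfu : B f u = 0)
    {c : F} {d : E} (hd : d ∈ D σ e f) (hs : σ d = tvG h.alt u c) : z h.alt σ u c = d :=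
  eq_of_D hi hef (h.z_mem hi hef heu hfu c) hd (by rw [h.sigma_z, hs])

theorem Ext.z_conj (h : Ext σ) (hi : Inj σ) (x : E) (u : V) (c : F) :
    x * z h.alt σ u c * x⁻¹ = z h.alt σ ((σ x : V ≃ₗ[F] V) u) c := by
  obtain ⟨e, f, hef, heu, hfu, hz, hs⟩ := h.z_spec u c
  refine (h.z_eq hi ?_ ?_ ?_ (conj_D x hz) ?_).symm
  · rw [(σ x).2, hef]
  · rw [(σ x).2, heu]
  · rw [(σ x).2, hfu]
  · rw [map_mul, map_mul, map_inv, hs, tvG_conj]

theorem Ext.z_add (h : Ext σ) (hi : Inj σ) (u : V) (c d : F) :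
    z h.alt σ u (c + d) = z h.alt σ u c * z h.alt σ u d := by
  obtain ⟨e, f, hef, heu, hfu⟩ := h.exists_pair_one u
  exact h.z_eq hi hef heu hfu (mul_mem (h.z_mem hi hef heu hfu c) (h.z_mem hi hef heu hfu d))
    (by rw [map_mul, h.sigma_z, h.sigma_z, tvG_add])

theorem Ext.z_zero (h : Ext σ) (hi : Inj σ) (u : V) : z h.alt σ u 0 = 1 := by
  obtain ⟨e, f, hef, heu, hfu⟩ := h.exists_pair_one u
  exact h.z_eq hi hef heu hfu (one_mem _) (by rw [map_one, tvG_zero])

theorem Ext.z_zero_left (h : Ext σ) (hi : Inj σ) (c : F) : z h.alt σ 0 c = 1 := by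
  obtain ⟨e, f, hef, heu, hfu⟩ := h.exists_pair_one 0
  exact h.z_eq hi hef heu hfu (one_mem _) (by rw [map_one, tvG_zero_left])

theorem Ext.z_neg (h : Ext σ) (hi : Inj σ) (u : V) (c : F) : z h.alt σ u (-c) = (z h.alt σ u c)⁻¹ :=
  eq_inv_of_mul_eq_one_left (by rw [← h.z_add hi, neg_add_cancel, h.z_zero hi])

theorem Ext.z_smul (h : Ext σ) (hi : Inj σ) (u : V) (a c : F) :
    z h.alt σ (a • u) c = z h.alt σ u (a ^ 2 * c) := by
  obtain ⟨e, f, hef, heu, hfu⟩ := h.exists_pair_one u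
  exact h.z_eq hi hef (by simp [heu]) (by simp [hfu]) (h.z_mem hi hef heu hfu _)
    (by rw [h.sigma_z, tvG_smul])

theorem Ext.z_commute (h : Ext σ) (hi : Inj σ) {u w : V} (huw : B u w = 0) (c d : F) :
    Commute (z h.alt σ u c) (z h.alt σ w d) :=
  h.commute hi huw (h.sigma_z u c) (h.sigma_z w d)

end Cfsg.Lib.SpMult
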